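import Cfsg.Agent.Spor.ThD.K.D0

set_option autoImplicit false
set_option maxRecDepth 100000000
set_option Elab.async false

namespace Cfsg.Agent.Spor.ThD.K

theorem ff3 : U.fixFrom 10 819 1 = true := by decide +kernel

theorem ff4 : U.fixFrom 10 819 3 = true := by decide +kernel

theorem ff5 : U.fixFrom 10 819 5 = true := by decide +kernel

theorem ff6 : U.fixFrom 10 819 7 = true := by decide +kernel

theorem ff7 : U.fixFrom 10 819 9 = true := by decide +kernel

theorem ff8 : U.fixFrom 10 819 11 = true := by decide +kernel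

theorem ff9 : U.fixFrom 10 819 13 = true := by decide +kernel

theorem gr10 : sub (ones 819) (U.growI W1 [1, 2, 3, 4, 5, 6, 6, 5, 4, 2, 1, 0, 1, 3, 4, 5, 6, 6, 5, 2, 1, 0, 3] (Nat.shiftLeft 1 6)) = true := by decide +kernel

theorem fx13 : U.closedW W12 (Nat.shiftLeft 1 6) = true := by decide +kernel

end Cfsg.Agent.Spor.ThD.K
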