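import Cfsg.Agent.Spor.Prim
import Cfsg.Agent.Spor.ThD.Main
import Cfsg.Agent.Spor.ThD.K.C0
import Cfsg.Agent.Spor.PX11
import Cfsg.Agent.Spor.ThD.Grp

set_option autoImplicit false
set_option maxRecDepth 100000000
set_option Elab.async false

namespace Cfsg.Agent.Spor.ThD.K

theorem hU : U.Ok 10 := U.ok_of 10 (show AllP (fun n => Net.okb 10 n = true) [n0, n1, n2, n3, n4, n5, n6] from AllP.cons ok0 (AllP.cons ok1 (AllP.cons ok2 (AllP.cons ok3 (AllP.cons ok4 (AllP.cons ok5 (AllP.cons ok6 (AllP.nil))))))))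

theorem hfP : ∀ j < 7, U.fP [1, 3, 5, 7, 9, 11, 13] j = fP j := by
  intro j hj
  interval_cases j <;> rfl
theorem eG : gsub 7 fP = U.lsub W1 := (gsub_congr hfP).symm.trans (lsub_eq_gsub U [1, 3, 5, 7, 9, 11, 13])
theorem upz1 : ev (atm 7 fP) [0] = U.τ 1 := pz1
theorem upz3 : ev (atm 7 fP) [2] = U.τ 3 := pz2
theorem upz5 : ev (atm 7 fP) [4] = U.τ 5 := pz3
theorem upz7 : ev (atm 7 fP) [6] = U.τ 7 := pz4
theorem upz9 : ev (atm 7 fP) [8] = U.τ 9 := pz5
theorem upz11 : ev (atm 7 fP) [10] = U.τ 11 := pz6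
theorem upz13 : ev (atm 7 fP) [12] = U.τ 13 := pz7
theorem eH : wsub 7 fP BW = U.lsub W2 :=
  lsub_eq_of_all₂ (show List.Forall₂ _ [[0], [4], [6], [8], [10], [12]] [[1], [5], [7], [9], [11], [13]] from List.Forall₂.cons (upz1.trans (one_mul _).symm) (List.Forall₂.cons (upz5.trans (one_mul _).symm) (List.Forall₂.cons (upz7.trans (one_mul _).symm) (List.Forall₂.cons (upz9.trans (one_mul _).symm) (List.Forall₂.cons (upz11.trans (one_mul _).symm) (List.Forall₂.cons (upz13.trans (one_mul _).symm) (List.Forall₂.nil)))))))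
theorem hfix : gsub 7 fP ≤ FixFrom 819 := (gsub_congr hfP).symm.le.trans (hU.gsub_fix (gs := [1, 3, 5, 7, 9, 11, 13]) (AllP.cons ff3 (AllP.cons ff4 (AllP.cons ff5 (AllP.cons ff6 (AllP.cons ff7 (AllP.cons ff8 (AllP.cons ff9 (AllP.nil)))))))))
theorem reach11 : Reach (U.lsub W1) 6 (ones 819) := (Reach.grow hU (Reach.base _ 6) gr10)
theorem link : U.Link P.subtype (atm 7 p) (2 * 7) :=
  Tab.Link.of (fun j hj => (lift_gsub fP j hj).trans (by interval_cases j <;> rfl)) (by decide +kernel)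
theorem core : (wsub 7 p [[11, 8, 11, 2, 4, 6, 8, 10, 4, 6, 2, 4, 6, 8, 6, 5, 7, 10, 10], [11, 13, 8, 10, 0, 2, 4, 6, 8, 0, 2, 4, 6, 4, 2, 0, 3, 10, 9, 7, 5, 3, 1, 10, 9]]).normalCore = ⊥ :=
  core_of_trans hfix (eG ▸ reach11) (link.fix hU (W := W12) (by decide +kernel) (hU.fixes fx13))

end Cfsg.Agent.Spor.ThD.K
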