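import Cfsg.Agent.Spor.Chk2
import Cfsg.Agent.Spor.ThD.D0

set_option autoImplicit false
set_option maxRecDepth 100000000
set_option Elab.async false
noncomputable section

namespace Cfsg.Agent.Spor.ThD.K

def W1 : List (List Nat) := [[1], [3], [5], [7], [9], [11], [13]]

def W2 : List (List Nat) := [[1], [5], [7], [9], [11], [13]]

def W12 : List (List Nat) := [[11, 11, 8, 6, 7, 9, 7, 5, 3, 7, 5, 11, 9, 7, 5, 3, 12, 9, 12], [10, 11, 2, 4, 6, 8, 10, 11, 4, 1, 3, 5, 7, 5, 3, 1, 9, 7, 5, 3, 1, 11, 9, 14, 12]]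

def U : Tab := ⟨[n0, n1, n2, n3, n4, n5, n6], [⟨0, false, 0, 0, []⟩, ⟨0, false, 0, 0, []⟩, ⟨0, true, 0, 0, []⟩, ⟨1, false, 0, 0, []⟩, ⟨1, true, 0, 0, []⟩, ⟨2, false, 0, 0, []⟩, ⟨2, true, 0, 0, []⟩, ⟨3, false, 0, 0, []⟩, ⟨3, true, 0, 0, []⟩, ⟨4, false, 0, 0, []⟩, ⟨4, true, 0, 0, []⟩, ⟨5, false, 0, 0, []⟩, ⟨5, true, 0, 0, []⟩, ⟨6, false, 0, 0, []⟩, ⟨6, true, 0, 0, []⟩]⟩

end Cfsg.Agent.Spor.ThD.K
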